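import Cfsg.Agent.H906.Cover_m3
import Cfsg.Agent.H936.AltBig2
import Cfsg.Agent.H638.G2Iso
import Cfsg.Agent.H936.List12c
import Cfsg.Agent.S2658
import Cfsg.Agent.H175.BdSp_m3
import Cfsg.Agent.LieRecognition.SzMatrix
import Cfsg.Agent.H916.T8
import Cfsg.Agent.H921.SporJ1
import Cfsg.Agent.H4.JT.Two
import Cfsg.Agent.H921.SporSuz
import Cfsg.Agent.H921.SporMore_m3
import Cfsg.Agent.FastGrp
import Cfsg.Agent.Prune
set_option linter.all false

section
prune_inst 0x7ffdadfffbf8f9dfdfff7e7ffededffdffbbbfffe6dff9cbbfe021ef2bdffb1cc9c56bad8feb53fe1ea3c29c18fc7bc3fffffeffea6ffc7ffffdfff45ffbffdffdf7bd08719e8cb40fbe0ff703f0778e7f3fffffffffffffffffffffffffffbeffbfffffffff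

-- part: H957/EPX/G2Seven
section
prune_inst 0x1000020000180000000000000000000200430000000000000040004000010600004000100000044020000000000000000020000000000000000000208002400002000104060009000000000000000000000000000000000000000000000000000
set_option linter.all false
open scoped Cfsg.Agent.FastGrp

-- part: H957/EPX/CoreOf
section
/-!
# From a representation of a simple group over a finite field to a core (helper957)

`exists_core` : `T` a finite non-abelian simple group, `ρ : T →* GL_n(F)` nontrivial, `F` finite of characteristic `p`.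
Then there are `m ≤ n`, a finite field `E` of characteristic `p` and `P ≤ GL_m(E)` with `Core P`, `P ≃* T ≃* Soc P`.
`exists_core_lt` : `m < n` if `T` fixes a non-zero vector.
-/

set_option autoImplicit false
set_option linter.unusedSectionVars false
set_option linter.style.haveILetI false

universe u

namespace Cfsg.Agent.H957.EPX

open Matrix Cfsg Cfsg.Geo Cfsg.Agent.H915.LD Cfsg.Agent.H203.LS
open scoped commutatorElement

section

variable {T : Type u} [Group T] {k : Type} [Field k]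

/-- the matrices of a representation -/
noncomputable def toGL {U : Type*} [AddCommGroup U] [Module k U] {d : ℕ} (b : Module.Basis (Fin d) k U)
    (σ : T →* (U →ₗ[k] U)) : T →* GL (Fin d) k :=
  ((LinearMap.toMatrixAlgEquiv b).toAlgHom : (U →ₗ[k] U) →* Matrix (Fin d) (Fin d) k).comp σ |>.toHomUnits

theorem toGL_apply {U : Type*} [AddCommGroup U] [Module k U] {d : ℕ} (b : Module.Basis (Fin d) k U)
    (σ : T →* (U →ₗ[k] U)) (g : T) : ((toGL b σ g : GL (Fin d) k) : Matrix (Fin d) (Fin d) k) =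
      LinearMap.toMatrixAlgEquiv b (σ g) := rfl

theorem toGL_ne_one {U : Type*} [AddCommGroup U] [Module k U] {d : ℕ} (b : Module.Basis (Fin d) k U)
    (σ : T →* (U →ₗ[k] U)) (h : ∃ g, σ g ≠ 1) : toGL b σ ≠ 1 := by
  obtain ⟨g, hg⟩ := h
  intro h1
  apply hg
  have h2 : ((toGL b σ g : GL (Fin d) k) : Matrix (Fin d) (Fin d) k) = 1 := by rw [h1]; rfl
  rw [toGL_apply] at h2
  exact (LinearMap.toMatrixAlgEquiv b).injective (h2.trans (map_one (LinearMap.toMatrixAlgEquiv b)).symm)

/-- the operators of a matrix representation -/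
noncomputable def toEnd {m : ℕ} (ρ : T →* GL (Fin m) k) : T →* ((Fin m → k) →ₗ[k] (Fin m → k)) :=
  ((Matrix.toLinAlgEquiv' : Matrix (Fin m) (Fin m) k ≃ₐ[k] _).toAlgHom : _ →* _).comp
    ((Units.coeHom (Matrix (Fin m) (Fin m) k)).comp ρ)

theorem toEnd_apply {m : ℕ} (ρ : T →* GL (Fin m) k) (g : T) (v : Fin m → k) :
    toEnd ρ g v = (ρ g : Matrix (Fin m) (Fin m) k) *ᵥ v := rfl

theorem toEnd_ne_one {m : ℕ} (ρ : T →* GL (Fin m) k) (h : ρ ≠ 1) : ∃ g, toEnd ρ g ≠ 1 := by
  by_contra hcon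
  push Not at hcon
  apply h
  ext1 g
  apply Units.ext
  have h1 := hcon g
  apply (Matrix.toLinAlgEquiv' : Matrix (Fin m) (Fin m) k ≃ₐ[k] _).injective
  exact h1.trans (map_one (Matrix.toLinAlgEquiv' : Matrix (Fin m) (Fin m) k ≃ₐ[k] _)).symm

/-- A nontrivial representation of smallest degree of a perfect group is irreducible. -/
theorem irr_of_min (hP : commutator T = ⊤) {V : Type} [AddCommGroup V] [Module k V] [FiniteDimensional k V]
    (hmin : ∀ (U : Type) [AddCommGroup U] [Module k U] [FiniteDimensional k U] (σ : T →* (U →ₗ[k] U)),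
      (∃ g, σ g ≠ 1) → Module.finrank k V ≤ Module.finrank k U)
    (ρ : T →* (V →ₗ[k] V)) (hρ : ∃ g, ρ g ≠ 1) (W : Submodule k V) (hW : ∀ g, ∀ v ∈ W, ρ g v ∈ W) :
    W = ⊥ ∨ W = ⊤ := by
  by_contra hcon
  push Not at hcon
  obtain ⟨hW0, hW1⟩ := hcon
  by_cases h1 : ∃ g, res ρ W hW g ≠ 1
  · have := hmin W (res ρ W hW) h1
    have := Submodule.finrank_lt hW1
    omega
  by_cases h2 : ∃ g, quo ρ W hW g ≠ 1
  · have := hmin (V ⧸ W) (quo ρ W hW) h2
    have h4 := Submodule.finrank_quotient_add_finrank W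
    have h5 : 0 < Module.finrank k W := by
      haveI : Nontrivial W := Submodule.nontrivial_iff_ne_bot.2 hW0
      exact Module.finrank_pos
    omega
  push Not at h1 h2
  obtain ⟨g, hg⟩ := hρ
  apply hg
  have e1 : ∀ g, ∀ v ∈ W, ρ g v = v := fun g v hv => by
    have := LinearMap.congr_fun (h1 g) ⟨v, hv⟩
    exact congrArg Subtype.val this
  have e2 : ∀ g v, ρ g v - v ∈ W := fun g v => by
    have := LinearMap.congr_fun (h2 g) (W.mkQ v)
    have h3 : W.mkQ (ρ g v) = W.mkQ v := by simpa only [quo, _root_.Submodule.mkQ_apply, _root_.MonoidHom.coe_mk, _root_.OneHom.coe_mk, _root_.Submodule.mapQ_apply, _root_.Module.End.one_apply] using this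
    exact (Submodule.Quotient.eq W).1 h3
  apply eq_one_of_comm hP ρ
  intro a b
  ext v
  have h3 : ∀ a b, ρ (a * b) v = ρ a v + ρ b v - v := by
    intro a b
    rw [map_mul, Module.End.mul_apply]
    have h4 := e1 a _ (e2 b v)
    rw [map_sub] at h4
    rw [sub_eq_iff_eq_add] at h4
    rw [h4]; abel
  rw [h3, h3]; abel

end

/-- `T` has a nontrivial representation of degree `m` over the finite field `E`. -/
def RepOn (p m : ℕ) (T : Type u) [Group T] (E : Type) [Field E] : Prop :=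
  Finite E ∧ CharP E p ∧ ∃ ρ : T →* GL (Fin m) E, ρ ≠ 1

theorem perfect_of_simple {T : Type u} [Group T] [IsSimpleGroup T] (hna : ∃ a b : T, a * b ≠ b * a) :
    commutator T = ⊤ := by
  rcases (inferInstance : (commutator T).Normal).eq_bot_or_eq_top with h | h
  · exfalso
    obtain ⟨a, b, hab⟩ := hna
    apply hab
    have h1 : ⁅a, b⁆ ∈ commutator T := Subgroup.commutator_mem_commutator (Subgroup.mem_top a) (Subgroup.mem_top b)
    rw [h, Subgroup.mem_bot, commutatorElement_def] at h1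
    calc a * b = a * b * a⁻¹ * b⁻¹ * (b * a) := by group
      _ = b * a := by rw [h1, one_mul]
  · exact h


section main

variable {T : Type u} [Group T] {p : ℕ}

theorem ker_eq_bot [IsSimpleGroup T] {H : Type*} [Group H] (ρ : T →* H) (h : ρ ≠ 1) : ρ.ker = ⊥ := by
  rcases (inferInstance : ρ.ker.Normal).eq_bot_or_eq_top with h1 | h1
  · exact h1
  · exfalso
    apply h
    ext1 g
    have h2 : g ∈ ρ.ker := by rw [h1]; exact Subgroup.mem_top g
    exact h2

/-- descent to a subfield -/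
theorem exists_down {m : ℕ} {E : Type} [Field E] (ρ : T →* GL (Fin m) E) (hρ : ρ ≠ 1) (F₀ : Subfield E)
    (h : RealisableOver F₀ (matrixSet ρ.range)) : ∃ ρ' : T →* GL (Fin m) F₀, ρ' ≠ 1 := by
  obtain ⟨B, hB⟩ := h
  have hB' : ∀ g i j, ((B : Matrix (Fin m) (Fin m) E) * (ρ g : Matrix (Fin m) (Fin m) E) *
      ((B⁻¹ : GL (Fin m) E) : Matrix (Fin m) (Fin m) E)) i j ∈ F₀ := fun g i j =>
    hB _ ⟨ρ g, ⟨g, rfl⟩, rfl⟩ i j
  let f : T →* Matrix (Fin m) (Fin m) F₀ :=
    { toFun := fun g i j => ⟨_, hB' g i j⟩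
      map_one' := by
        ext i j
        change ((B : Matrix (Fin m) (Fin m) E) * (ρ 1 : Matrix (Fin m) (Fin m) E) *
          ((B⁻¹ : GL (Fin m) E) : Matrix (Fin m) (Fin m) E)) i j = _
        rw [map_one, Units.val_one, mul_one, ← Units.val_mul, mul_inv_cancel, Units.val_one]
        by_cases hij : i = j
        · subst hij; rw [Matrix.one_apply_eq, Matrix.one_apply_eq]; rfl
        · rw [Matrix.one_apply_ne hij, Matrix.one_apply_ne hij]; rfl
      map_mul' := fun a b => by
        ext i j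
        change ((B : Matrix (Fin m) (Fin m) E) * (ρ (a * b) : Matrix (Fin m) (Fin m) E) *
          ((B⁻¹ : GL (Fin m) E) : Matrix (Fin m) (Fin m) E)) i j = _
        have h1 : (B : Matrix (Fin m) (Fin m) E) * (ρ (a * b) : Matrix (Fin m) (Fin m) E) *
            ((B⁻¹ : GL (Fin m) E) : Matrix (Fin m) (Fin m) E) =
            ((B : Matrix (Fin m) (Fin m) E) * (ρ a : Matrix (Fin m) (Fin m) E) *
              ((B⁻¹ : GL (Fin m) E) : Matrix (Fin m) (Fin m) E)) *
            ((B : Matrix (Fin m) (Fin m) E) * (ρ b : Matrix (Fin m) (Fin m) E) *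
              ((B⁻¹ : GL (Fin m) E) : Matrix (Fin m) (Fin m) E)) := by
          rw [map_mul]
          simp only [← Units.val_mul]
          congr 1
          group
        rw [h1]
        change _ = F₀.subtype (∑ l : Fin m, _)
        rw [map_sum, Matrix.mul_apply]
        rfl }
  refine ⟨f.toHomUnits, ?_⟩
  intro h1
  apply hρ
  ext1 g
  have h2 : f g = 1 := by
    have := congrArg (fun ρ : T →* GL (Fin m) F₀ => ((ρ g : GL (Fin m) F₀) : Matrix (Fin m) (Fin m) F₀)) h1
    exact this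
  have h3 : (B : Matrix (Fin m) (Fin m) E) * (ρ g : Matrix (Fin m) (Fin m) E) *
      ((B⁻¹ : GL (Fin m) E) : Matrix (Fin m) (Fin m) E) = 1 := by
    ext i j
    have h4 := congrArg (fun M : Matrix (Fin m) (Fin m) F₀ => ((M i j : F₀) : E)) h2
    refine Eq.trans h4 ?_
    by_cases hij : i = j
    · subst hij; rw [Matrix.one_apply_eq, Matrix.one_apply_eq]; rfl
    · rw [Matrix.one_apply_ne hij, Matrix.one_apply_ne hij]; rfl
  have h5 : B * ρ g * B⁻¹ = 1 := by
    apply Units.ext
    rw [Units.val_mul, Units.val_mul, h3, Units.val_one]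
  have h6 : ρ g = B⁻¹ * (B * ρ g * B⁻¹) * B := by group
  rw [h6, h5]
  simp

/-- extension of scalars -/
theorem exists_up {m : ℕ} {E E' : Type} [Field E] [Field E'] (φ : E →+* E') (ρ : T →* GL (Fin m) E) (hρ : ρ ≠ 1) :
    ((Matrix.GeneralLinearGroup.map φ).comp ρ : T →* GL (Fin m) E') ≠ 1 := by
  intro h
  apply hρ
  ext1 g
  apply Units.ext
  ext i j
  have h1 := congrArg (fun ρ : T →* GL (Fin m) E' => ((ρ g : GL (Fin m) E') : Matrix (Fin m) (Fin m) E') i j) h
  apply φ.injective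
  refine Eq.trans h1 ?_
  by_cases hij : i = j
  · subst hij
    simp only [_root_.MonoidHom.one_apply, _root_.Units.val_one, _root_.Matrix.one_apply_eq, _root_.map_one]
  · simp [Matrix.one_apply_ne hij]

/-- **The core of a representation.** -/
theorem exists_core [Finite T] [hs : IsSimpleGroup T] (hna : ∃ a b : T, a * b ≠ b * a) [Fact p.Prime] {n : ℕ}
    {F : Type} [Field F] [Finite F] [CharP F p] (ρ : T →* GL (Fin n) F) (hρ : ρ ≠ 1) :
    ∃ m ≤ n, ∃ (E : Type) (_ : Field E) (_ : Finite E) (_ : CharP E p) (P : Subgroup (GL (Fin m) E)),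
      _root_.Cfsg.Agent.H915.LD.Core P ∧ Nonempty (T ≃* P) ∧ Nonempty (T ≃* Soc P) := by
  classical
  have hT := perfect_of_simple hna
  -- the degree
  have hex : ∃ m, ∃ (E : Type) (_ : Field E), RepOn p m T E := ⟨n, F, _, inferInstance, inferInstance, ρ, hρ⟩
  obtain ⟨m, hm, hmin⟩ : ∃ m, (∃ (E : Type) (_ : Field E), RepOn p m T E) ∧
      ∀ m', (∃ (E : Type) (_ : Field E), RepOn p m' T E) → m ≤ m' :=
    ⟨Nat.find hex, Nat.find_spec hex, fun m' h => Nat.find_min' hex h⟩
  have hmn : m ≤ n := hmin n ⟨F, _, inferInstance, inferInstance, ρ, hρ⟩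
  have hex2 : ∃ c, ∃ (E : Type) (_ : Field E), RepOn p m T E ∧ Nat.card E = c := by
    obtain ⟨E, i, h⟩ := hm
    exact ⟨_, E, i, h, rfl⟩
  obtain ⟨c, ⟨E, iE, ⟨hEf, hEp, σ, hσ⟩, hEc⟩, hcmin⟩ : ∃ c, (∃ (E : Type) (_ : Field E), RepOn p m T E ∧ Nat.card E = c) ∧
      ∀ c', (∃ (E : Type) (_ : Field E), RepOn p m T E ∧ Nat.card E = c') → c ≤ c' :=
    ⟨Nat.find hex2, Nat.find_spec hex2, fun c' h => Nat.find_min' hex2 h⟩
  -- irreducible over every field
  have irr : ∀ (E' : Type) [Field E'] [Finite E'] [CharP E' p] (τ : T →* GL (Fin m) E'), τ ≠ 1 →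
      ∀ W : Submodule E' (Fin m → E'), (∀ g, ∀ v ∈ W, (τ g : Matrix (Fin m) (Fin m) E') *ᵥ v ∈ W) → W = ⊥ ∨ W = ⊤ := by
    intro E' _ _ _ τ hτ W hW
    refine irr_of_min hT ?_ (toEnd τ) (toEnd_ne_one τ hτ) W hW
    intro U _ _ _ κ hκ
    rw [Module.finrank_fin_fun]
    exact hmin _ ⟨E', inferInstance, inferInstance, inferInstance,
      toGL (Module.finBasisOfFinrankEq E' U rfl) κ, toGL_ne_one _ _ hκ⟩
  have hker := ker_eq_bot σ hσ
  have hinj : Function.Injective σ := (MonoidHom.ker_eq_bot_iff σ).1 hker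
  let e : T ≃* σ.range := MonoidHom.ofInjective hinj
  have hPs : IsSimpleGroup σ.range := (MulEquiv.isSimpleGroup_congr e).1 hs
  have hPna : ∃ a b : σ.range, a * b ≠ b * a := by
    obtain ⟨a, b, hab⟩ := hna
    refine ⟨e a, e b, fun h => hab (e.injective ?_)⟩
    rw [map_mul, map_mul, h]
  have hsc : (scalars (Fin m) E).subgroupOf σ.range = ⊥ := by
    have hn : ((scalars (Fin m) E).subgroupOf σ.range).Normal := by
      constructor
      intro z hz g
      have h1 := Subgroup.mem_center_iff.1 (scalars_le_center hz) g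
      rw [h1, mul_inv_cancel_right]
      exact hz
    rcases hn.eq_bot_or_eq_top with h | h
    · exact h
    · exfalso
      obtain ⟨a, b, hab⟩ := hPna
      apply hab
      have h1 : b ∈ (scalars (Fin m) E).subgroupOf σ.range := by rw [h]; exact Subgroup.mem_top b
      exact Subgroup.mem_center_iff.1 (scalars_le_center h1) a
  have e2 : σ.range ≃* Soc σ.range :=
    (QuotientGroup.quotientBot (G := σ.range)).symm.trans (QuotientGroup.quotientMulEquivOfEq hsc.symm)
  have hcore : _root_.Cfsg.Agent.H915.LD.Core σ.range := by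
    refine ⟨?_, (MulEquiv.isSimpleGroup_congr e2).1 hPs, ?_, ⟨?_, ?_⟩, ?_⟩
    · rw [MonoidHom.range_eq_map, ← Subgroup.map_commutator]
      congr 1
    · intro hc
      obtain ⟨a, b, hab⟩ := hPna
      apply hab
      apply e2.injective
      rw [map_mul, map_mul]
      exact hc.is_comm.comm _ _
    · intro W hW
      refine irr E σ hσ W ?_
      intro g v hv
      exact hW _ ⟨σ g, ⟨g, rfl⟩, rfl⟩ (Submodule.mem_map_of_mem hv)
    · intro M hM
      -- an eigenvalue over an extension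
      have hm0 : 0 < m := by
        by_contra h0
        have h0' : m = 0 := by omega
        subst h0'
        apply hσ
        ext g i
        exact Fin.elim0 i
      let χ := M.charpoly
      have hχ : χ.degree ≠ 0 := by
        rw [Matrix.charpoly_degree_eq_dim]
        simp only [Fintype.card_fin, ne_eq, Nat.cast_eq_zero]
        omega
      let E' := χ.SplittingField
      let φ : E →+* E' := algebraMap E E'
      have : Finite E' := Module.finite_of_finite E
      have : CharP E' p := charP_of_injective_algebraMap φ.injective p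
      obtain ⟨l, hl⟩ : ∃ l : E', (χ.map φ).eval l = 0 :=
        (Polynomial.SplittingField.splits χ).exists_eval_eq_zero (by rwa [Polynomial.degree_map])
      have hτ := exists_up φ σ hσ
      set τ : T →* GL (Fin m) E' := (Matrix.GeneralLinearGroup.map φ).comp σ with hτd
      let M' : Matrix (Fin m) (Fin m) E' := M.map φ
      have hM' : ∀ g, M' * (τ g : Matrix (Fin m) (Fin m) E') = (τ g : Matrix (Fin m) (Fin m) E') * M' := by
        intro g
        have h1 := hM _ ⟨σ g, ⟨g, rfl⟩, rfl⟩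
        have h2 := congrArg (fun X : Matrix (Fin m) (Fin m) E => X.map φ) h1
        simp only [Matrix.map_mul] at h2
        exact h2
      have h1 : (scalar (Fin m) l - M').det = 0 := by
        rw [← Matrix.eval_charpoly, Matrix.charpoly_map]
        exact hl
      obtain ⟨v, hv0, hv⟩ := Matrix.exists_mulVec_eq_zero_iff.2 h1
      let W : Submodule E' (Fin m → E') := LinearMap.ker (scalar (Fin m) l - M').mulVecLin
      have hcomm : ∀ g, (scalar (Fin m) l - M') * (τ g : Matrix (Fin m) (Fin m) E') =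
          (τ g : Matrix (Fin m) (Fin m) E') * (scalar (Fin m) l - M') := by
        intro g
        rw [sub_mul, mul_sub, hM' g, (Matrix.scalar_commute l (fun _ => mul_comm _ _) _).eq]
      have hW : W = ⊤ := by
        rcases irr E' τ hτ W (by
          intro g w hw
          have hw' : (scalar (Fin m) l - M') *ᵥ w = 0 := hw
          change (scalar (Fin m) l - M') *ᵥ ((τ g : Matrix (Fin m) (Fin m) E') *ᵥ w) = 0
          rw [Matrix.mulVec_mulVec, hcomm, ← Matrix.mulVec_mulVec, hw', Matrix.mulVec_zero]) with h | h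
        · exfalso
          apply hv0
          have h2 : v ∈ W := hv
          rwa [h, Submodule.mem_bot] at h2
        · exact h
      have h2 : ∀ i j, M' i j = (scalar (Fin m) l : Matrix (Fin m) (Fin m) E') i j := by
        intro i j
        have h3 : (Pi.single j (1 : E') : Fin m → E') ∈ W := by rw [hW]; exact Submodule.mem_top
        have h4 : (scalar (Fin m) l - M') *ᵥ (Pi.single j (1 : E')) = 0 := h3
        have h5 := congrFun h4 i
        rw [Matrix.mulVec_single_one] at h5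
        simp only [Matrix.col_apply, Matrix.sub_apply, Pi.zero_apply] at h5
        exact (sub_eq_zero.1 h5).symm
      refine ⟨M ⟨0, hm0⟩ ⟨0, hm0⟩, ?_⟩
      ext i j
      apply φ.injective
      have h3 : φ (M i j) = (scalar (Fin m) l : Matrix (Fin m) (Fin m) E') i j := h2 i j
      have h4 : φ (M ⟨0, hm0⟩ ⟨0, hm0⟩) = (scalar (Fin m) l : Matrix (Fin m) (Fin m) E') ⟨0, hm0⟩ ⟨0, hm0⟩ := h2 _ _
      rw [Matrix.smul_apply, smul_eq_mul, map_mul, h3, h4]
      by_cases hij : i = j
      · subst hij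
        simp
      · simp [Matrix.one_apply_ne hij, Matrix.diagonal_apply_ne _ hij]
    · intro F₀ hF₀ hR
      obtain ⟨ρ', hρ'⟩ := exists_down σ hσ F₀ hR
      have h1 : CharP F₀ p := by
        exact RingHom.charP F₀.subtype F₀.subtype.injective p
      have h2 : c ≤ Nat.card F₀ := hcmin _ ⟨F₀, inferInstance, ⟨inferInstance, h1, ρ', hρ'⟩, rfl⟩
      apply hF₀
      rw [← hEc] at h2
      have h3 : Function.Bijective (Subtype.val : F₀ → E) := by
        refine (Nat.bijective_iff_injective_and_card _).2 ⟨Subtype.val_injective, ?_⟩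
        exact le_antisymm (Nat.card_le_card_of_injective _ Subtype.val_injective) h2
      rw [eq_top_iff]
      intro x _
      obtain ⟨y, rfl⟩ := h3.2 x
      exact y.2
  exact ⟨m, hmn, E, iE, hEf, hEp, σ.range, hcore, ⟨e⟩, ⟨e.trans e2⟩⟩

/-- A common fixed vector can be factored out. -/
theorem exists_quot (hT : commutator T = ⊤) {n : ℕ} {F : Type} [Field F] (ρ : T →* GL (Fin n) F) (hρ : ρ ≠ 1)
    {v : Fin n → F} (hv0 : v ≠ 0) (hv : ∀ g, (ρ g : Matrix (Fin n) (Fin n) F) *ᵥ v = v) :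
    ∃ ρ' : T →* GL (Fin (n - 1)) F, ρ' ≠ 1 := by
  let W : Submodule F (Fin n → F) := Submodule.span F {v}
  have e1 : ∀ g, ∀ w ∈ W, toEnd ρ g w = w := by
    intro g w hw
    obtain ⟨c, rfl⟩ := Submodule.mem_span_singleton.1 hw
    rw [map_smul, toEnd_apply, hv]
  have hW : ∀ g, ∀ w ∈ W, toEnd ρ g w ∈ W := fun g w hw => by rw [e1 g w hw]; exact hw
  have h4 := Submodule.finrank_quotient_add_finrank W
  have h5 : Module.finrank F W = 1 := finrank_span_singleton hv0
  rw [Module.finrank_fin_fun] at h4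
  have hd : Module.finrank F ((Fin n → F) ⧸ W) = n - 1 := by omega
  by_cases h2 : ∃ g, quo (toEnd ρ) W hW g ≠ 1
  · exact ⟨toGL (Module.finBasisOfFinrankEq F _ hd) (quo (toEnd ρ) W hW), toGL_ne_one _ _ h2⟩
  exfalso
  push Not at h2
  have e2 : ∀ g w, toEnd ρ g w - w ∈ W := fun g w => by
    have := LinearMap.congr_fun (h2 g) (W.mkQ w)
    have h3 : W.mkQ (toEnd ρ g w) = W.mkQ w := by simpa only [quo, _root_.Submodule.mkQ_apply, _root_.MonoidHom.coe_mk, _root_.OneHom.coe_mk, _root_.Submodule.mapQ_apply, _root_.Module.End.one_apply] using this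
    exact (Submodule.Quotient.eq W).1 h3
  obtain ⟨g, hg⟩ := toEnd_ne_one ρ hρ
  apply hg
  apply eq_one_of_comm hT (toEnd ρ)
  intro a b
  apply LinearMap.ext
  intro w
  have h3 : ∀ a b, toEnd ρ (a * b) w = toEnd ρ a w + toEnd ρ b w - w := by
    intro a b
    rw [map_mul, Module.End.mul_apply]
    have h4 := e1 a _ (e2 b w)
    rw [map_sub] at h4
    rw [sub_eq_iff_eq_add] at h4
    rw [h4]; abel
  rw [h3, h3]; abel

/-- The core when a non-zero vector is fixed. -/
theorem exists_core_fix [Finite T] [IsSimpleGroup T] (hna : ∃ a b : T, a * b ≠ b * a) [Fact p.Prime] {n : ℕ}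
    {F : Type} [Field F] [Finite F] [CharP F p] (ρ : T →* GL (Fin n) F) (hρ : ρ ≠ 1)
    {v : Fin n → F} (hv0 : v ≠ 0) (hv : ∀ g, (ρ g : Matrix (Fin n) (Fin n) F) *ᵥ v = v) :
    ∃ m ≤ n - 1, ∃ (E : Type) (_ : Field E) (_ : Finite E) (_ : CharP E p) (P : Subgroup (GL (Fin m) E)),
      _root_.Cfsg.Agent.H915.LD.Core P ∧ Nonempty (T ≃* P) ∧ Nonempty (T ≃* Soc P) := by
  obtain ⟨ρ', hρ'⟩ := exists_quot (perfect_of_simple hna) ρ hρ hv0 hv
  exact exists_core hna ρ' hρ'

end main

end Cfsg.Agent.H957.EPX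
end

-- part: H957/EPX/G2Seven
section
/-!
# S5745, family `G₂(q)`: simple subgroups of cross characteristic have a representation of degree at most `7` (helper957)
-/

set_option autoImplicit false
set_option linter.unusedSectionVars false

universe u v

namespace Cfsg.Agent.H957.EPX

open Matrix Cfsg Cfsg.Geo Cfsg.Lie Cfsg.Agent.H915.LD Cfsg.Agent.H912.Bd

/-- the identity of the octonions -/
def octOne (F : Type*) [Field F] : Fin 8 → F := ![1, 0, 0, 0, 0, 0, 0, 1]

theorem one_zorn {F : Type*} [Field F] (x : Fin 8 → F) : zornMul (octOne F) x = x := by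
  ext i
  (revert i; simp only [zornMul, octOne, dot3, cross3, _root_.Fin.forall_fin_succ, Fin.isValue, _root_.Matrix.cons_val_zero, _root_.one_mul, _root_.Matrix.cons_val_one, _root_.MulZeroClass.zero_mul, _root_.Matrix.cons_val, _root_.add_zero, _root_.one_smul, _root_.Matrix.smul_cons, _root_.smul_eq_mul, _root_.MulZeroClass.mul_zero, _root_.Matrix.smul_empty, _root_.Matrix.add_cons, _root_.Matrix.head_cons, _root_.Matrix.tail_cons, _root_.Matrix.empty_add_empty, _root_.sub_self, _root_.Pi.sub_apply, _root_.sub_zero, _root_.zero_add, _root_.Pi.add_apply, _root_.Matrix.cons_val_succ, _root_.Fin.succ_zero_eq_one, _root_.Fin.succ_one_eq_two, Fin.reduceSucc, _root_.Matrix.cons_val_fin_one, _root_.IsEmpty.forall_iff, _root_.and_self])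

theorem zorn_one {F : Type*} [Field F] (x : Fin 8 → F) : zornMul x (octOne F) = x := by
  ext i
  (revert i; simp only [zornMul, octOne, dot3, cross3, _root_.Fin.forall_fin_succ, Fin.isValue, _root_.Matrix.cons_val_zero, _root_.mul_one, _root_.Matrix.cons_val, _root_.MulZeroClass.mul_zero, _root_.Matrix.cons_val_one, _root_.add_zero, _root_.Matrix.smul_cons, _root_.smul_eq_mul, _root_.Matrix.smul_empty, _root_.one_smul, _root_.Matrix.add_cons, _root_.Matrix.head_cons, _root_.zero_add, _root_.Matrix.tail_cons, _root_.Matrix.empty_add_empty, _root_.sub_self, _root_.Pi.sub_apply, _root_.sub_zero, _root_.Pi.add_apply, _root_.Matrix.cons_val_succ, _root_.Fin.succ_zero_eq_one, _root_.Fin.succ_one_eq_two, Fin.reduceSucc, _root_.Matrix.cons_val_fin_one, _root_.IsEmpty.forall_iff, _root_.and_self])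

theorem octOne_ne {F : Type*} [Field F] : octOne F ≠ 0 := by
  intro h
  have := congrFun h 0
  simp [octOne] at this

theorem fix_octOne {F : Type*} [Field F] (g : Cfsg.Lie.G2 F) :
    ((g : GL (Fin 8) F) : Matrix (Fin 8) (Fin 8) F) *ᵥ octOne F = octOne F := by
  have hg : ∀ x y, ((g : GL (Fin 8) F) : Matrix (Fin 8) (Fin 8) F) *ᵥ zornMul x y =
      zornMul (((g : GL (Fin 8) F) : Matrix (Fin 8) (Fin 8) F) *ᵥ x)
        (((g : GL (Fin 8) F) : Matrix (Fin 8) (Fin 8) F) *ᵥ y) := g.2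
  have h1 := hg (octOne F) (((g : GL (Fin 8) F)⁻¹ : GL (Fin 8) F).1 *ᵥ octOne F)
  have h2 : ((g : GL (Fin 8) F) : Matrix (Fin 8) (Fin 8) F) *ᵥ
      (((g : GL (Fin 8) F)⁻¹ : GL (Fin 8) F).1 *ᵥ octOne F) = octOne F := by
    rw [Matrix.mulVec_mulVec, ← Units.val_mul, mul_inv_cancel, Units.val_one, Matrix.one_mulVec]
  rw [one_zorn, h2, zorn_one] at h1
  exact h1.symm

/-- **Degree at most seven.** -/
theorem g2_core {T : Type u} [Group T] [Finite T] [IsSimpleGroup T] (hna : ∃ a b : T, a * b ≠ b * a)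
    {p : ℕ} [Fact p.Prime] {K : Type} [Field K] [Finite K] [CharP K p] (f : T →* chevG2.group K)
    (hf : f ≠ 1) : ∃ m ≤ 7, ∃ (E : Type) (_ : Field E) (_ : Finite E) (_ : CharP E p) (P : Subgroup (GL (Fin m) E)),
      Core P ∧ Nonempty (T ≃* P) ∧ Nonempty (T ≃* Soc P) := by
  obtain ⟨e⟩ := H638.G2Iso.equiv (F := K)
  let ρ : T →* GL (Fin 8) K := (Cfsg.Lie.G2 K).subtype.comp (e.symm.toMonoidHom.comp f)
  have hρ : ρ ≠ 1 := by
    intro h
    apply hf
    ext1 g
    have h1 : ((e.symm (f g) : Cfsg.Lie.G2 K) : GL (Fin 8) K) = 1 := congrArg (fun ρ : T →* GL (Fin 8) K => ρ g) h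
    have h2 : e.symm (f g) = 1 := Subtype.ext h1
    exact e.symm.map_eq_one_iff.1 h2
  exact exists_core_fix hna ρ hρ octOne_ne (fun g => fix_octOne (e.symm (f g)))

/-- A linear group is a projective representation for every prime. -/
theorem pr_of_equiv {T : Type u} [Group T] [Finite T] {F : Type v} [Field F] {n : ℕ}
    {P : Subgroup (GL (Fin n) F)} (e : T ≃* P) (r : ℕ) : PR F n r T := by
  refine ⟨P, inferInstance, e.symm.toMonoidHom, P.subtype, e.symm.surjective, ?_, ?_, ?_⟩
  · intro x hx y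
    have : x = 1 := e.symm.map_eq_one_iff.1 hx
    rw [this, one_mul, mul_one]
  · have : e.symm.toMonoidHom.ker = ⊥ := (MonoidHom.ker_eq_bot_iff _).2 e.symm.injective
    rw [this, Subgroup.card_bot]
    exact Nat.coprime_one_left r
  · intro x hx
    have h1 : x = 1 := Subtype.ext hx
    rw [h1]
    exact one_mem _

end Cfsg.Agent.H957.EPX
end

private theorem dce_5923dca45ab9 : _root_.True := by
  try have : _root_.True := by simp only [_root_.Cfsg.Agent.H957.EPX.octOne.eq_1]
  exact _root_.True.intro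
end

-- part: H957/EPX/G2List
section
prune_inst 0x252000406062000000000010100000044400019000200401ece1094000082302890001000a80100542c622000001000000000050000000000000000000000000000910061010ac00100080000084000000000000000000000000000000000004000000000
set_option linter.all false
open scoped Cfsg.Agent.FastGrp

-- part: H957/EPX/SzEight
section
/-!
# `Sz(q)`: degree at least `2 (q - 1)` when the kernel has odd order (helper957)
-/

set_option autoImplicit false
set_option linter.unusedSectionVars false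

universe u v

namespace Cfsg.Agent.H957.EPX

open Cfsg.Agent.LieRecognition.SzMatrix Cfsg.Agent.H912.Bd

section

variable {K : Type v} [Field K] {θ : K →+* K} {e : ℕ} (H : Good K θ e)

/-- the centre of the unipotent group -/
def zSub : Subgroup ↥(Cfsg.Lie.Sz K e) where
  carrier := {x | ∃ b, x = H.u 0 b}
  mul_mem' := by
    rintro _ _ ⟨b, rfl⟩ ⟨c, rfl⟩
    exact ⟨b + c, by rw [H.u_mul]; simp⟩
  one_mem' := ⟨0, H.u_zero.symm⟩
  inv_mem' := by
    rintro _ ⟨b, rfl⟩
    exact ⟨b, by rw [H.u_inv]; simp⟩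

/-- the centre and one element outside -/
def aSub : Subgroup ↥(Cfsg.Lie.Sz K e) where
  carrier := {x | ∃ a b, (a = 0 ∨ a = 1) ∧ x = H.u a b}
  mul_mem' := by
    rintro _ _ ⟨a, b, ha, rfl⟩ ⟨a', b', ha', rfl⟩
    refine ⟨a + a', _, ?_, H.u_mul _ _ _ _⟩
    rcases ha with rfl | rfl <;> rcases ha' with rfl | rfl
    · exact Or.inl (by simp)
    · exact Or.inr (by simp)
    · exact Or.inr (by simp)
    · exact Or.inl (H.add_self 1)
  one_mem' := ⟨0, 0, Or.inl rfl, H.u_zero.symm⟩
  inv_mem' := by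
    rintro _ ⟨a, b, ha, rfl⟩
    exact ⟨a, _, ha, H.u_inv _ _⟩

theorem u_conj (c a b : K) : H.u c 0 * H.u a b * (H.u c 0)⁻¹ = H.u a (b + (c * θ a + a * θ c)) := by
  rw [mul_inv_eq_iff_eq_mul, H.u_mul, H.u_mul]
  congr 1
  · ring
  · linear_combination (-(a * θ c)) * H.two

theorem d_conj (k : Kˣ) (b : K) : H.d k * H.u 0 b * (H.d k)⁻¹ = H.u 0 (b * θ k) := by
  rw [mul_inv_eq_iff_eq_mul, H.d_mul_u]
  simp

theorem four_pow (a b : K) : H.u a b ^ 2 ^ 2 = 1 := by
  have h2 : ∀ a b : K, H.u a b ^ 2 = H.u 0 (a * θ a) := by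
    intro a b
    rw [pow_two, H.u_mul]
    congr 1
    · exact H.add_self a
    · linear_combination b * H.two
  have h4 : (2 : ℕ) ^ 2 = 2 * 2 := by norm_num
  rw [h4, pow_mul, h2, h2, map_zero, mul_zero, H.u_zero]

include H in
theorem exists_not_fix [Fintype K] (h3 : 2 < Fintype.card K) : ∃ c : K, θ c ≠ c := by
  by_contra hcon
  push Not at hcon
  have h1 : ∀ c : K, c = 0 ∨ c = 1 := by
    intro c
    have h2 := H.sq c
    rw [hcon, hcon] at h2
    have h3 : c * (c - 1) = 0 := by linear_combination -h2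
    rcases mul_eq_zero.1 h3 with h | h
    · exact Or.inl h
    · exact Or.inr (sub_eq_zero.1 h)
  classical
  have h4 : (Finset.univ : Finset K) ⊆ {0, 1} := by
    intro c _
    rcases h1 c with h | h <;> simp only [h, _root_.Finset.mem_insert, _root_.Finset.mem_singleton, _root_.zero_ne_one, _root_.or_false, _root_.one_ne_zero, _root_.or_true]
  have h5 := Finset.card_le_card h4
  rw [Finset.card_univ] at h5
  have h6 : ({0, 1} : Finset K).card ≤ 2 := Finset.card_le_two
  omega

include H in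
/-- **The bound.** -/
theorem pr_sz [Fintype K] (h3 : 2 < Fintype.card K) {F : Type u} [Field F] {n : ℕ} (hF : ((2 : ℕ) : F) ≠ 0)
    (h : PR F n 2 ↥(Cfsg.Lie.Sz K e)) : (Fintype.card K - 1) * 2 ≤ n := by
  classical
  obtain ⟨c, hc⟩ := exists_not_fix H h3
  have hδ : θ c + c ≠ 0 := by
    intro h0
    apply hc
    linear_combination h0 - c * H.two
  let S : Finset ↥(Cfsg.Lie.Sz K e) := Finset.univ.image H.d
  let S' : Finset ↥(Cfsg.Lie.Sz K e) := {1, H.u c 0}
  have hS : S.card = Fintype.card K - 1 := by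
    rw [Finset.card_image_of_injective _ (fun _ _ h => H.d_inj h), Finset.card_univ, Fintype.card_units]
  have h1u : (1 : ↥(Cfsg.Lie.Sz K e)) ≠ H.u c 0 := by
    intro h0
    rw [← H.u_zero] at h0
    have h1 := (H.u_inj h0).1
    apply hc
    rw [← h1, map_zero]
  have hS' : S'.card = 2 := Finset.card_pair h1u
  have hfin : Finite ↥(Cfsg.Lie.Sz K e) := inferInstance
  rw [← hS, ← hS']
  have hconj : ∀ s ∈ S', ∃ a, s = H.u a 0 := by
    intro s hs
    rcases Finset.mem_insert.1 hs with rfl | hs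
    · exact ⟨0, H.u_zero.symm⟩
    · exact ⟨c, Finset.mem_singleton.1 hs⟩
  refine h.bound_mul Nat.prime_two hF (zSub H) ?_ ?_ (e₀ := H.u 0 (θ c + c)) ⟨_, rfl⟩ ?_ S ?_ ?_ (aSub H) ?_ ?_ ?_
    ⟨0, _, Or.inl rfl, rfl⟩ S' ?_ ?_ ?_
  · rintro _ ⟨b, rfl⟩ _ ⟨b', rfl⟩
    rw [H.u_mul, H.u_mul, add_comm b b', map_zero, mul_zero]
  · rintro ⟨_, b, rfl⟩
    exact ⟨2, Subtype.ext (four_pow H 0 b)⟩
  · intro h0
    rw [← H.u_zero] at h0
    exact hδ (H.u_inj h0).2
  · intro s hs _ ⟨b, hb⟩
    obtain ⟨k, -, rfl⟩ := Finset.mem_image.1 hs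
    rw [hb, d_conj]
    exact ⟨_, rfl⟩
  · intro s hs t ht hst
    obtain ⟨k, -, rfl⟩ := Finset.mem_image.1 hs
    obtain ⟨l, -, rfl⟩ := Finset.mem_image.1 ht
    have hkl : θ k + θ l ≠ 0 := by
      intro h0
      apply hst
      have h1 : θ k = θ l := by linear_combination h0 - θ l * H.two
      have h2 : k = l := Units.ext (θ.injective h1)
      rw [h2]
    refine ⟨H.u 0 ((θ c + c) / (θ k + θ l)), ⟨_, rfl⟩, ?_⟩
    rw [d_conj, d_conj, H.u_inv, H.u_mul]
    congr 1
    · simp
    · field_simp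
      simp only [_root_.MulZeroClass.mul_zero, _root_.map_zero, _root_.add_zero]
      ring
  · rintro _ ⟨a, b, ha, rfl⟩ _ ⟨a', b', ha', rfl⟩
    rw [H.u_mul, H.u_mul, add_comm a a', add_comm b b']
    congr 2
    rcases ha with rfl | rfl <;> rcases ha' with rfl | rfl <;> simp only [_root_.map_zero, _root_.MulZeroClass.mul_zero, _root_.map_one, _root_.mul_one]
  · rintro ⟨_, a, b, -, rfl⟩
    exact ⟨2, Subtype.ext (four_pow H a b)⟩
  · rintro _ ⟨a, b, -, rfl⟩ _ ⟨b', rfl⟩
    rw [H.u_mul, H.u_mul, map_zero]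
    congr 1
    · ring
    · ring
  · intro s hs _ ⟨b, hb⟩
    obtain ⟨a, rfl⟩ := hconj s hs
    rw [hb, H.u_mul, H.u_mul, map_zero]
    congr 1
    · ring
    · ring
  · intro s hs _ ⟨a', b, ha', hb⟩
    obtain ⟨a, rfl⟩ := hconj s hs
    rw [hb, u_conj]
    exact ⟨_, _, ha', rfl⟩
  · intro s hs t ht hst
    refine ⟨H.u 1 0, ⟨1, 0, Or.inr rfl, rfl⟩, ?_⟩
    have key : ∀ x y : K, H.u 1 x * (H.u 1 y)⁻¹ = H.u 0 (x + y) := by
      intro x y
      rw [H.u_inv, H.u_mul]
      congr 1
      · exact H.add_self 1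
      · rw [map_one]
        linear_combination H.two
    rcases Finset.mem_insert.1 hs with rfl | hs' <;> rcases Finset.mem_insert.1 ht with rfl | ht'
    · exact absurd rfl hst
    · rw [Finset.mem_singleton.1 ht', u_conj, one_mul, inv_one, mul_one, key]
      congr 1
      rw [map_one]
      ring
    · rw [Finset.mem_singleton.1 hs', u_conj]
      simp only [one_mul, inv_one, mul_one, key]
      congr 1
      rw [map_one]
      ring
    · exact absurd ((Finset.mem_singleton.1 hs').trans (Finset.mem_singleton.1 ht').symm) hst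

end

/-- `Sz(8)`: degree at least `14` when the kernel has odd order -/
theorem sz8_le {K : Type} [Field K] [Fintype K] (hK : Fintype.card K = 8) {F : Type u} [Field F] {n : ℕ}
    (hF : ((2 : ℕ) : F) ≠ 0) (h : PR F n 2 ↥(Cfsg.Lie.Sz K 4)) : 14 ≤ n := by
  classical
  have H := good (F := K) (m := 1) (by rw [hK]; norm_num)
  have h1 := pr_sz H (by rw [hK]; norm_num) hF h
  rw [hK] at h1
  omega

end Cfsg.Agent.H957.EPX
end

-- part: H957/EPX/G2List
section
/-!
# S5745, family `G₂(q)`: the list of simple subgroups, neither sporadic nor of Lie type in characteristic `p` (helper957)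
-/

set_option autoImplicit false
set_option linter.unusedSectionVars false

universe u v

namespace Cfsg.Agent.H957.EPX

open Matrix Cfsg Cfsg.Geo Cfsg.Lie Cfsg.Agent.H915.LD Cfsg.Agent.H912.Bd Cfsg.Agent.H936.List12

/-- the list -/
def G2List (p : ℕ) (T : Type v) [Group T] : Prop :=
  Nonempty (T ≃* alternatingGroup (Fin 5)) ∨ (p ≠ 3 ∧ Nonempty (T ≃* alternatingGroup (Fin 6))) ∨
  (p = 5 ∧ Nonempty (T ≃* alternatingGroup (Fin 7))) ∨ (p ≠ 2 ∧ p ≠ 7 ∧ IsL 2 7 T) ∨ (p ≠ 2 ∧ IsL 2 8 T) ∨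
  (p ≠ 11 ∧ IsL 2 11 T) ∨ (p ≠ 13 ∧ IsL 2 13 T) ∨ (p ≠ 3 ∧ IsU 3 3 T) ∨ (p ≠ 2 ∧ p ≠ 3 ∧ IsU 4 2 T) ∨
  (p ≠ 2 ∧ IsS 3 2 T)

theorem card_dvd_seven {p : ℕ} {r : ℕ} (h : r ≤ 6 + if p = 5 then 1 else 0) (h5 : 5 ≤ r) :
    r = 5 ∨ r = 6 ∨ (p = 5 ∧ r = 7) := by
  split_ifs at h with h1
  · omega
  · omega

/-- `A₆` is of Lie type in characteristic `3` -/
theorem a6_lie {T : Type v} [Group T] (h : Nonempty (T ≃* alternatingGroup (Fin 6))) : IsLieTypeChar 3 T := by
  obtain ⟨K, iK, iF, hK⟩ := exists_field Nat.prime_three (k := 2) (by norm_num)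
  obtain ⟨e⟩ := h
  obtain ⟨e'⟩ := S0254.result (F := K) (by rw [hK]; norm_num)
  exact lie_of_isL (q := 9) Nat.prime_three (by norm_num) le_rfl (fun _ => by norm_num)
    ⟨K, iK, iF, by rw [hK]; norm_num, ⟨e.trans e'.symm⟩⟩

/-- **The list.** -/
theorem g2_list {T : Type} [Group T] [Finite T] [IsSimpleGroup T] (hna : ∃ a b : T, a * b ≠ b * a)
    {p : ℕ} [hp : Fact p.Prime] {K : Type} [Field K] [Fintype K] [CharP K p] (f : T →* chevG2.group K)
    (hf : Function.Injective f) (hk : IsKnownSimple' T) (hs : ¬ IsSporadicGroup T) (hL : ¬ IsLieTypeChar p T) :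
    G2List p T := by
  have hf1 : f ≠ 1 := by
    rintro rfl
    obtain ⟨a, b, hab⟩ := hna
    exact hab (hf rfl)
  have hnc : ¬ IsMulCommutative T := by
    intro hc
    obtain ⟨a, b, hab⟩ := hna
    exact hab (hc.is_comm.comm a b)
  have hf' : Finite ↥(chevG2.group K) := inferInstance
  -- alternating
  have halt : ∀ r, Nonempty (T ≃* alternatingGroup (Fin r)) → r ≤ 6 + if p = 5 then 1 else 0 := by
    rintro r ⟨e⟩
    refine Cfsg.Agent.S2658.result (F := K) p r f.range ⊥ ⟨?_⟩
    exact (QuotientGroup.quotientBot (G := f.range)).trans ((MonoidHom.ofInjective hf).symm.trans e)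
  obtain ⟨m, hm, E, iE, iEf, iEp, P, hC, ⟨e1⟩, ⟨e2⟩⟩ := g2_core (p := p) hna f hf1
  have hPR : ∀ r, PR E m r T := fun r => pr_of_equiv e1 r
  have hk' : IsKnownSimple' (Soc P) := OddHalf.Known.isKnownSimple'_congr e2 hnc hk
  have hL' : ¬ IsLieTypeChar p (Soc P) := fun h => hL (OddHalf.Known.isLieTypeChar_congr e2.symm h)
  have h0 : CandD p m T := candD_congr e2.symm (list₂ (by omega) hC hk' hL')
  have hne : ∀ {q : ℕ}, q.Prime → q ≠ p → ((q : ℕ) : E) ≠ 0 := fun hq h => cast_ne hq h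
  rcases h0 with h | h | h | ⟨h1, h2, h⟩ | h
  · obtain ⟨r, h5, -, -, -, -, h⟩ := h
    rcases card_dvd_seven (halt r h) h5 with rfl | rfl | ⟨h6, rfl⟩
    · exact Or.inl h
    · exact Or.inr (Or.inl ⟨fun h3 => hL (h3 ▸ a6_lie h), h⟩)
    · exact Or.inr (Or.inr (Or.inl ⟨h6, h⟩))
  · rcases h with ⟨q, h1, h2, h3, h4⟩ | ⟨h1, h2, h3⟩ | ⟨h1, h2, h3⟩ | ⟨h1, h2, h3⟩ | ⟨h1, h1', h2, h3⟩ | ⟨h1, h2, h3⟩ |
      ⟨h1, h2, h3⟩ | ⟨h1, h2, h3⟩ | ⟨h1, h2, h3⟩
    · simp only [Finset.mem_insert, Finset.mem_singleton] at h1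
      have h27 : q = 7 → G2List p T := by
        rintro rfl
        refine Or.inr (Or.inr (Or.inr (Or.inl ⟨?_, ?_, h4⟩)))
        · rintro rfl
          exact hL (lie_of_isL Nat.prime_two (dvd_refl 2) (by norm_num) (by norm_num) (l32_of_l27 h4))
        · rintro rfl
          exact h2 (dvd_refl 7)
      rcases h1 with rfl | rfl | rfl | rfl | rfl | rfl | rfl | rfl
      · exact h27 rfl
      · refine Or.inr (Or.inr (Or.inr (Or.inr (Or.inl ⟨?_, h4⟩))))
        rintro rfl
        exact h2 (by norm_num)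
      · refine Or.inr (Or.inr (Or.inr (Or.inr (Or.inr (Or.inl ⟨?_, h4⟩)))))
        rintro rfl
        exact h2 (dvd_refl 11)
      · refine Or.inr (Or.inr (Or.inr (Or.inr (Or.inr (Or.inr (Or.inl ⟨?_, h4⟩))))))
        rintro rfl
        exact h2 (dvd_refl 13)
      · exfalso
        norm_num at h3
        omega
      · exfalso
        norm_num at h3
        omega
      · exfalso
        norm_num at h3
        omega
      · exfalso
        norm_num at h3
        omega
    · omega
    · exact Or.inr (Or.inr (Or.inr (Or.inr (Or.inr (Or.inr (Or.inr (Or.inl ⟨h1, h3⟩)))))))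
    · omega
    · exact Or.inr (Or.inr (Or.inr (Or.inr (Or.inr (Or.inr (Or.inr (Or.inr (Or.inl ⟨h1, h1', h3⟩))))))))
    · omega
    · omega
    · exact Or.inr (Or.inr (Or.inr (Or.inr (Or.inr (Or.inr (Or.inr (Or.inr (Or.inr ⟨h1, h3⟩))))))))
    · exfalso
      obtain ⟨L, iL, iLf, hL2, ⟨e⟩⟩ := h3
      have := (H916.T8.om hL2 hC p (e2.symm.trans e) (by exact_mod_cast hne Nat.prime_two (Ne.symm h1))
        (by rw [Fintype.card_fin]; omega)).1
      rw [Fintype.card_fin] at this
      omega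
  · rcases h with ⟨h1, h2, h3⟩ | ⟨h1, h2, h3⟩
    · have h2E : ((2 : ℕ) : E) ≠ 0 := hne Nat.prime_two (Ne.symm h1)
      rcases h3 with h | h | ⟨h0, h⟩ | h | h | h
      · refine Or.inr (Or.inr (Or.inr (Or.inl ⟨h1, ?_, h⟩)))
        rintro rfl
        exact hL (lie_of_isL hp.out (dvd_refl 7) le_rfl (fun _ => by norm_num) h)
      · exfalso
        obtain ⟨L, iL, iLf, hL2, ⟨e⟩⟩ := h
        have hch : CharP L 2 := charP_of_dvd Nat.prime_two (by rw [hL2]; norm_num)
        have := (bd_psl (F := E) Nat.prime_two h2E (m := 3) le_rfl hch).congr e m (hPR 2)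
        rw [hL2] at this
        omega
      · exact Or.inr (Or.inr (Or.inr (Or.inr (Or.inr (Or.inr (Or.inr (Or.inr (Or.inl ⟨h1, h0, h⟩))))))))
      · exact Or.inr (Or.inr (Or.inr (Or.inr (Or.inr (Or.inr (Or.inr (Or.inr (Or.inr ⟨h1, h⟩))))))))
      · exfalso
        obtain ⟨L, iL, iLf, hL2, ⟨e⟩⟩ := h
        have := (H916.T8.om hL2 hC p (e2.symm.trans e) (by exact_mod_cast h2E) (by rw [Fintype.card_fin]; omega)).1
        rw [Fintype.card_fin] at this
        omega
      · exfalso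
        obtain ⟨L, iL, iLf, hL2, ⟨e⟩⟩ := h
        have hch : CharP L 2 := charP_of_dvd Nat.prime_two (by rw [hL2]; norm_num)
        have := ((@bd_g2 L iL _ E _ 2 Nat.prime_two hch h2E).congr e) m (hPR 2)
        rw [Nat.card_eq_fintype_card, hL2] at this
        omega
    · exfalso
      obtain ⟨L, iL, iLf, hL2, ⟨e⟩⟩ := h3
      have h3E : ((3 : ℕ) : E) ≠ 0 := hne Nat.prime_three (Ne.symm h1)
      have hch : CharP L 3 := charP_of_dvd Nat.prime_three (by rw [hL2]; norm_num)
      have := H175.BdSU.bd_psu (F := E) Nat.prime_three (q := 3) hL2 (by norm_num) h3E e m (hPR 3)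
      norm_num at this
      omega
  · exfalso
    obtain ⟨L, iL, iLf, hL2, ⟨e⟩⟩ := h
    obtain ⟨L', iL', π, ρ, h3, h4, h5, h6⟩ := hPR 2
    have h7 : PR E m 2 ↥(Cfsg.Lie.Sz L 4) := by
      refine ⟨L', iL', e.toMonoidHom.comp π, ρ, e.surjective.comp h3, ?_, ?_, ?_⟩
      · intro x hx
        exact h4 x (e.map_eq_one_iff.1 hx)
      · have : (e.toMonoidHom.comp π).ker = π.ker := by
          ext x
          rw [MonoidHom.mem_ker, MonoidHom.mem_ker, MonoidHom.comp_apply]
          exact e.map_eq_one_iff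
        rw [this]
        exact h5
      · intro x hx
        rw [MonoidHom.mem_ker, MonoidHom.comp_apply]
        exact e.map_eq_one_iff.2 (MonoidHom.mem_ker.1 (h6 hx))
    have := sz8_le hL2 (hne Nat.prime_two (Ne.symm h1)) h7
    omega
  · exfalso
    apply hs
    unfold IsSporadicGroup
    rcases h with h | h | h | h | h | h | h | h | h
    all_goals (clear * - h; tauto)

end Cfsg.Agent.H957.EPX
end
end

-- part: H444/G2S/Cases
section
set_option linter.all false

/-!
# S5745, cell `g2_spor`: the sporadic groups with a representation of degree at most `7` (helper444)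

`spor_cases` : `f : T →* chevG2.group K` nontrivial, `T` sporadic, `K` of characteristic `p`: `p = 3` and
`T = M₁₁, M₁₂`, or `p = 11` and `T = J₁`, or `p = 2` and `T = J₂`.
-/

set_option autoImplicit false
set_option linter.unusedSectionVars false

namespace Cfsg.Agent.H444.G2S

open Cfsg Cfsg.Lie Cfsg.Agent.H915.LD Cfsg.Agent.H912.Bd Cfsg.Agent.H957.EPX
open Cfsg.Agent.H921.Spor

section

variable {T : Type} [Group T] [Finite T] (p : ℕ) [hp : Fact p.Prime] {E : Type} [Field E] [CharP E p] {m : ℕ}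
  {P : Subgroup (Matrix.GeneralLinearGroup (Fin m) E)}

theorem cast_ne' {r : ℕ} (hr : r.Prime) (h : p ≠ r) : (r : E) ≠ 0 := by
  intro h0
  have h1 : p ∣ r := (CharP.cast_eq_zero_iff E p r).1 h0
  exact h ((Nat.prime_dvd_prime_iff_eq hp.out hr).1 h1)

include hp

theorem kill1 (eP : T ≃* P) (hm : m ≤ 7) {X : Type} [Group X] (e : T ≃* X) {r a : ℕ} (hr : r.Prime) (h : Orb r a X)
    (ha : 8 ≤ a) : p = r := by
  by_contra hpr
  have h1 : Orb r a T := h.of_equiv e.symm
  have h2 := h1.bd (F := E) hr (cast_ne' p hr hpr) m (pr_of_equiv eP r)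
  omega

theorem kill2 (eP : T ≃* P) (hm : m ≤ 7) {X : Type} [Group X] (e : T ≃* X) {r s a b : ℕ} (hr : r.Prime) (hs : s.Prime)
    (h : Orb r a X) (h' : Orb s b X) (ha : 8 ≤ a) (hb : 8 ≤ b) (hrs : r ≠ s) : False :=
  hrs ((kill1 p eP hm e hr h ha).symm.trans (kill1 p eP hm e hs h' hb))

end

/-- **The sporadic subgroups of `G₂(q)`.** -/
theorem spor_cases {T : Type} [Group T] [Finite T] [IsSimpleGroup T] (hna : ∃ a b : T, a * b ≠ b * a)
    {p : ℕ} [hp : Fact p.Prime] {K : Type} [Field K] [Finite K] [CharP K p] (f : T →* chevG2.group K)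
    (hf : f ≠ 1) (hT : IsSporadicGroup T) :
    (p = 3 ∧ (Spor.IsoM11 T ∨ Spor.IsoM12 T)) ∨ (p = 11 ∧ Spor.IsoJ1 T) ∨ (p = 2 ∧ Spor.IsoJ2 T) := by
  obtain ⟨m, hm, E, iE, iEf, iEc, P, hC, ⟨eP⟩, ⟨eS⟩⟩ := g2_core hna f hf
  rcases hT with h | h | h | h | h | h | h | h | h | h | h | h | h | h | h | h | h | h | h | h | h | h | h | h | h | h
  · have h0 := h
    obtain ⟨e⟩ := h0
    exact Or.inl ⟨kill1 p eP hm e Nat.prime_three (M24.M11_three.orb Nat.prime_three) (by norm_num), Or.inl h⟩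
  · have h0 := h
    obtain ⟨e⟩ := h0
    exact Or.inl ⟨kill1 p eP hm e Nat.prime_three (M24.M12_three.orb Nat.prime_three) (by norm_num), Or.inr h⟩
  · obtain ⟨e⟩ := h
    exact (kill2 p eP hm e Nat.prime_two Nat.prime_three M24.M22_two M24.M22_three (by norm_num) (by norm_num)
      (by norm_num)).elim
  · obtain ⟨e⟩ := h
    exact (kill2 p eP hm e Nat.prime_two Nat.prime_three (M24.M23_two.orb Nat.prime_two) M24.M23_three
      (by norm_num) (by norm_num) (by norm_num)).elim
  · obtain ⟨e⟩ := h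
    exact (kill2 p eP hm e Nat.prime_two Nat.prime_three (M24.M24_two.orb Nat.prime_two) M24.M24_three
      (by norm_num) (by norm_num) (by norm_num)).elim
  · have h0 := h
    obtain ⟨e⟩ := h0
    exact Or.inr (Or.inl ⟨kill1 p eP hm e (by norm_num) (J1.J1_eleven.orb (by norm_num)) (by norm_num), h⟩)
  · have h0 := h
    obtain ⟨e⟩ := h0
    exact Or.inr (Or.inr ⟨kill1 p eP hm e Nat.prime_two J2.J2_two (by norm_num), h⟩)
  · obtain ⟨F, _, _, ω, hF, hω, ⟨e⟩⟩ := h
    have H := Cfsg.Agent.J3.Core.good_of_card hF hω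
    exact (kill2 p eP hm e (by norm_num) (by norm_num) ((J3.J3_nineteen hF H).orb (by norm_num))
      ((J3.J3_seventeen hF H).orb (by norm_num)) (by norm_num) (by norm_num) (by norm_num)).elim
  · obtain ⟨e⟩ := h
    have := Cfsg.Agent.H921.Spor.Le.j4_le hp.out hC (eS.symm.trans e)
    omega
  · obtain ⟨e⟩ := h
    have := Cfsg.Agent.H921.Spor.Le.co1_le hp.out hC (eS.symm.trans e)
    omega
  · obtain ⟨e⟩ := h
    have := Cfsg.Agent.H921.Spor.Le.co2_le hp.out hC (eS.symm.trans e)
    omega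
  · obtain ⟨e⟩ := h
    have := Cfsg.Agent.H921.Spor.Le.co3_le hp.out hC (eS.symm.trans e)
    omega
  · obtain ⟨e⟩ := h
    have := Cfsg.Agent.H489.Deg.Co.mcl_le hp.out hC (eS.symm.trans e)
    omega
  · obtain ⟨e⟩ := h
    have := Cfsg.Agent.H489.Deg.Co.hs_le hp.out hC (eS.symm.trans e)
    omega
  · obtain ⟨e⟩ := h
    exact (kill2 p eP hm e (by norm_num) (by norm_num) (Suz.Suz_eleven.orb (by norm_num)) Suz.Suz_five
      (by norm_num) (by norm_num) (by norm_num)).elim
  · obtain ⟨e⟩ := h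
    have := Cfsg.Agent.H489.Deg.He.he_le hp.out hC (eS.symm.trans e)
    omega
  · obtain ⟨e⟩ := h
    have := Cfsg.Agent.H489.Deg.Ru.ru_le hp.out hC (eS.symm.trans e)
    omega
  · obtain ⟨e⟩ := h
    have := Cfsg.Agent.H489.Deg.ON.on_le hp.out hC (eS.symm.trans e)
    omega
  · obtain ⟨e⟩ := h
    have := Cfsg.Agent.H489.Deg.Ly.ly_le hp.out hC (eS.symm.trans e)
    omega
  · obtain ⟨e⟩ := h
    have := Cfsg.Agent.H806.Ls.fi22_le hp.out hC (eS.symm.trans e)
    omega
  · obtain ⟨e⟩ := h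
    have := Cfsg.Agent.H806.Ls.fi23_le hp.out hC (eS.symm.trans e)
    omega
  · obtain ⟨e⟩ := h
    have := Cfsg.Agent.H921.Spor.Le.fi24_le hp.out hC (eS.symm.trans e)
    omega
  · obtain ⟨e⟩ := h
    have := Cfsg.Agent.H489.Deg.HN.hn_le hp.out hC (eS.symm.trans e)
    omega
  · obtain ⟨e⟩ := h
    have := Cfsg.Agent.H489.Deg.Th.th_le hp.out hC (eS.symm.trans e)
    omega
  · obtain ⟨e⟩ := h
    have := Cfsg.Agent.H806.Ls.b_le hp.out hC (eS.symm.trans e)
    omega
  · obtain ⟨e⟩ := h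
    have := Cfsg.Agent.H806.Ls.m_le hp.out hC (eS.symm.trans e)
    omega

end Cfsg.Agent.H444.G2S
end
end
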